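import Mathlib

set_option autoImplicit false
universe u

namespace Groth.Agent.H8.StdSmooth

open Polynomial in
/-- Cayley–Hamilton form of Nakayama: if `x • I ≤ I * I` for a finitely generated ideal `I`, some
`b ≡ x ^ d mod I` kills `I`. -/
theorem exists_kill_of_smul_le_sq {Q : Type*} [CommRing Q] (I : Ideal Q) (hI : I.FG) (x : Q)
    (hx : ∀ y ∈ I, x * y ∈ I * I) :
    ∃ (b : Q) (d : ℕ), b - x ^ d ∈ I ∧ ∀ y ∈ I, b * y = 0 := by
  classical
  haveI : Module.Finite Q I := Module.Finite.iff_fg.mpr hI
  let f : Module.End Q I := algebraMap Q (Module.End Q I) x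
  have hf : LinearMap.range f ≤ I • (⊤ : Submodule Q I) := by
    rintro _ ⟨y, rfl⟩
    rw [Submodule.mem_smul_top_iff]
    show ((x • y : I) : Q) ∈ I • I
    rw [Submodule.coe_smul, smul_eq_mul]
    exact hx y y.2
  obtain ⟨p, hmonic, -, hcoeff, hp⟩ :=
    LinearMap.exists_monic_and_natDegree_eq_and_coeff_mem_pow_and_aeval_eq_zero Q f I hf
  refine ⟨p.eval x, p.natDegree, ?_, fun y hy => ?_⟩
  · rw [Polynomial.eval_eq_sum_range, Finset.sum_range_succ, hmonic.coeff_natDegree, one_mul,
      add_sub_cancel_right]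
    refine Ideal.sum_mem _ fun k hk => ?_
    apply Ideal.mul_mem_right
    have h1 := hcoeff k
    have h2 : 1 ≤ p.natDegree - k := by
      have := Finset.mem_range.mp hk
      omega
    exact Ideal.pow_le_self (by omega) h1
  · have h1 : Polynomial.aeval f p = algebraMap Q (Module.End Q I) (Polynomial.aeval x p) :=
      Polynomial.aeval_algebraMap_apply (Module.End Q I) x p
    rw [h1] at hp
    have h2 := congrArg (fun g : Module.End Q I => ((g ⟨y, hy⟩ : I) : Q)) hp
    simp only [Module.algebraMap_end_apply, LinearMap.zero_apply, Submodule.coe_zero,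
      Submodule.coe_smul, smul_eq_mul] at h2
    rw [← Polynomial.coe_aeval_eq_eval]
    exact h2

/-- A localization of a quotient computed on the source. -/
theorem isLocalization_away_of_kill {Q A : Type*} [CommRing Q] [CommRing A] (π : Q →+* A)
    (hπ : Function.Surjective π) (a : A) (x b s : Q) (hxa : π x = a)
    (hb : ∀ y, π y = 0 → b * y = 0) (hxs : x ∣ s) (hbs : b ∣ s)
    (m : ℕ) (hsm : π s ∣ a ^ m) :
    letI : Algebra Q (Localization.Away a) :=
      ((algebraMap A (Localization.Away a)).comp π).toAlgebra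
    IsLocalization.Away s (Localization.Away a) := by
  letI : Algebra Q (Localization.Away a) :=
    ((algebraMap A (Localization.Away a)).comp π).toAlgebra
  have halg : ∀ q : Q, algebraMap Q (Localization.Away a) q =
      algebraMap A (Localization.Away a) (π q) := fun q => rfl
  have hunit : IsUnit (algebraMap A (Localization.Away a) (π s)) := by
    have h1 : IsUnit (algebraMap A (Localization.Away a) (a ^ m)) := by
      rw [map_pow]
      exact (IsLocalization.Away.algebraMap_isUnit a).pow m
    exact isUnit_of_dvd_unit (map_dvd _ hsm) h1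
  refine ⟨?_, ?_, ?_⟩
  · rintro ⟨_, k, rfl⟩
    show IsUnit (algebraMap Q (Localization.Away a) (s ^ k))
    rw [map_pow, halg]
    exact hunit.pow k
  · intro z
    obtain ⟨k, a', hk⟩ := IsLocalization.Away.surj a z
    obtain ⟨q, rfl⟩ := hπ a'
    obtain ⟨w, rfl⟩ := hxs
    refine ⟨⟨q * w ^ k, ⟨(x * w) ^ k, k, rfl⟩⟩, ?_⟩
    show z * algebraMap Q (Localization.Away a) ((x * w) ^ k) =
      algebraMap Q (Localization.Away a) (q * w ^ k)
    rw [halg, halg, mul_pow, map_mul, map_mul, map_mul, map_mul, map_pow, hxa, ← mul_assoc,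
      map_pow, hk]
  · intro q q' hqq'
    rw [halg, halg] at hqq'
    obtain ⟨k, hk⟩ := IsLocalization.Away.exists_of_eq a hqq'
    have h1 : π (x ^ k * (q - q')) = 0 := by
      rw [map_mul, map_pow, hxa, map_sub, mul_sub, hk, sub_self]
    have h2 := hb _ h1
    obtain ⟨w, hw⟩ := hxs
    obtain ⟨w', hw'⟩ := hbs
    refine ⟨⟨s ^ (k + 1), k + 1, rfl⟩, ?_⟩
    show s ^ (k + 1) * q = s ^ (k + 1) * q'
    rw [← sub_eq_zero, ← mul_sub]
    have h3 : s ^ (k + 1) = (x * w) ^ k * (b * w') := by
      rw [pow_succ, ← hw, ← hw']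
    have h4 : (x * w) ^ k * (b * w') * (q - q') = (w ^ k * w') * (b * (x ^ k * (q - q'))) := by
      ring
    rw [h3, h4, h2, mul_zero]

end Groth.Agent.H8.StdSmooth
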